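import Groth.Agent.S6061
import Groth.Agent.S19145
import Groth.Agent.S13423
import Groth.Agent.S9812
import Groth.Agent.Lib.MTRigid29.SpMultType
import Groth.Agent.Lib.MTRigid29.TwConstUnibranch
import Groth.Agent.Lib.MultType.Family
import Groth.Agent.Lib.MTRigid29.QuotTorus

/-!
# Extension of homomorphisms of groups of multiplicative type from the generic point
-/

set_option autoImplicit false
set_option linter.style.haveILetI false
set_option linter.unusedSectionVars false
set_option backward.isDefEq.respectTransparency false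
set_option backward.isDefEq.respectTransparency.types false
set_option maxSynthPendingDepth 3

universe u

open CategoryTheory Limits MonoidalCategory CartesianMonoidalCategory MonObj AlgebraicGeometry Opposite

noncomputable section

namespace Groth.Agent.CocharExt20

open MTRigid29 DiagGL AutFam

variable {S : Scheme.{u}}

/-- A group of multiplicative type and finite type is quasi-isotrivial. -/
theorem locally_etale_of_ft {H : Over S} [GrpObj H] (hH : SGA3x.IsMultTypeFT H) :
    TwC.Locally S TwC.Topology.etale (fun S' f => ∃ (M : Type) (_ : AddCommGroup M),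
      AddGroup.FG M ∧ Nonempty (Grp.mk (Red.bc f H) ≅ Grp.mk (Red.DS S' M))) := by
  intro s
  obtain ⟨V, hV, hsV, -⟩ := exists_isAffineOpen_mem_and_subset (x := s) (U := ⊤) trivial
  let g : Spec (CommRingCat.of (Γ(S, V) : Type u)) ⟶ S := hV.fromSpec
  haveI : IsOpenImmersion g := inferInstanceAs (IsOpenImmersion hV.fromSpec)
  obtain ⟨p, hp⟩ : ∃ p, g p = s := hV.range_fromSpec.symm.subset hsV
  obtain ⟨A, _, _, j, -, ⟨I, _, T, _, _, hff, hd⟩, hft, ⟨e⟩⟩ := exists_model_ft hH g
  classical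
  haveI : ∀ i, Module.Flat Γ(S, V) (T i) := fun i =>
    Module.Flat.of_retract (LinearMap.single Γ(S, V) T i) (LinearMap.proj i)
      (LinearMap.proj_comp_single_same Γ(S, V) T i)
  haveI := hft
  haveI := hff
  obtain ⟨W, f, hf, ⟨w, hw⟩, M, _, hM, ⟨e'⟩⟩ := IsotrivialNormal.locally_etale (MultTypeLib.isMultType_of_family T hd) p
  haveI : Etale f := hf
  refine ⟨W, f ≫ g, inferInstanceAs (Etale (f ≫ g)), ⟨w, by rw [Scheme.Hom.comp_base, TopCat.coe_comp, Function.comp_apply, hw]; exact hp⟩,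
    M, inferInstance, hM, ?_⟩
  obtain ⟨C⟩ : Nonempty (Chars M (Red.bc f (Red.bc g H))) := by
    let d : Chars M (Red.bc f (CoactBr.sp Γ(S, V) A)) := (charsDS W M).transport e'
    exact ⟨d.transport ((Over.pullback f).mapGrp.mapIso e.symm)⟩
  exact nonempty_grpIso_of_chars (charsComp g f H C) (charsDS W M)

section Extend

variable {H G : Over S} [GrpObj H] [GrpObj G]

theorem famUp_fst_comp_map {P : Scheme.{u}} (k : P ⟶ S) (T : Over P) (lam : H ⟶ G) :
    famUp k (fst (Red.bc k H) T ≫ (Over.pullback k).map lam) = fst H ((Over.map k).obj T) ≫ lam := by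
  rw [famUp, fl_comp_map, show fl k H (fst (Red.bc k H) T) = projHom k H T ≫ fst _ _ from (lift_fst _ _).symm,
    ← Category.assoc, ← Category.assoc, projInv_projHom, Category.id_comp]

theorem eq_of_fst_comp {X Y : Over S} {a b : X ⟶ Y} (h : fst X (𝟙_ (Over S)) ≫ a = fst X (𝟙_ (Over S)) ≫ b) :
    a = b := by
  have := congrArg (fun q => lift (𝟙 X) (toUnit X) ≫ q) h
  simpa only [lift_fst_assoc, Category.id_comp] using this

theorem isHomFamily_fst_comp {T : Over S} (lam : H ⟶ G) [IsMonHom lam] : IsHomFamily H G (fst H T ≫ lam) :=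
  fun X g₁ g₂ t => by simp only [lift_fst_assoc, MonObj.mul_comp]

theorem isMonHom_of_family {υ : H ⊗ 𝟙_ (Over S) ⟶ G} (hυ : IsHomFamily H G υ) :
    IsMonHom (lift (𝟙 H) (toUnit H) ≫ υ) :=
  TorsorSch25.isMonHom_of_points _ fun X x y => by
    have e : ∀ z : X ⟶ H, z ≫ lift (𝟙 H) (toUnit H) = lift z (toUnit X) := fun z => by
      rw [comp_lift, Category.comp_id, comp_toUnit]
    rw [← Category.assoc, ← Category.assoc, ← Category.assoc, e, e, e]
    exact hυ X x y _

/-- Homomorphisms extend uniquely from a reduced scheme dominated by the generic point. -/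
theorem existsUnique_extend [IsIntegral S] (hS : ∀ s : S, CAlg2.IsGeomUnibranch (S.presheaf.stalk s))
    (hH : SGA3x.IsMultTypeFT H) (hG : SGA3x.IsMultTypeFT G) {P : Scheme.{u}} [IsReduced P] (k : P ⟶ S)
    (e : Spec (S.residueField (genericPoint S)) ⟶ P) [IsDominant e]
    (he : e ≫ k = S.fromSpecResidueField (genericPoint S))
    (u : Red.bc k H ⟶ Red.bc k G) [IsMonHom u] :
    ∃! lam : H ⟶ G, IsMonHom lam ∧ (Over.pullback k).map lam = u := by
  obtain ⟨A, υ, hA, hAt⟩ := S6061.result H G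
    (fun s => by
      obtain ⟨W, f, hf, hs, M, i, -, he⟩ := locally_etale_of_ft hH s
      exact ⟨W, f, hf, hs, M, i, he⟩)
    (locally_etale_of_ft hG)
  haveI hAs := (etale_of_twConst A hAt).1
  let P₀ : Over P := 𝟙_ (Over P)
  let O : Over S := (Over.map k).obj P₀
  let φ : Red.bc k H ⊗ P₀ ⟶ Red.bc k G := fst _ _ ≫ u
  have hφ : IsHomFamily (Red.bc k H) (Red.bc k G) φ := isHomFamily_fst_comp u
  obtain ⟨a, ha, hau⟩ := hA.2 O (famUp k φ) ((isHomFamily_famUp_iff k φ).2 hφ)
  obtain ⟨-, -, hext, hex⟩ := S19145.result hS A hAt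
  have haw : a.left ≫ A.hom = k := (Over.w a).trans (Category.id_comp k)
  have hτ : (e ≫ a.left) ≫ A.hom = S.fromSpecResidueField (genericPoint S) := by rw [Category.assoc, haw, he]
  obtain ⟨σ, hσ, hσe⟩ := hex _ hτ
  let σO : 𝟙_ (Over S) ⟶ A := Over.homMk σ hσ
  have hσa : toUnit O ≫ σO = a := by
    refine Over.OverMorphism.ext (ext_of_isDominant_of_isSeparated A.hom (X := P) ?_ e ?_)
    · show ((toUnit O).left ≫ σ) ≫ A.hom = a.left ≫ A.hom
      rw [Category.assoc, hσ, haw]
      exact (Over.w (toUnit O)).trans (Category.id_comp k)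
    · show e ≫ (toUnit O).left ≫ σ = e ≫ a.left
      rw [← hσe, ← he, Category.assoc]
      congr 2
  let lam : H ⟶ G := lift (𝟙 H) (toUnit H) ≫ (H ◁ σO) ≫ υ
  haveI hlam : IsMonHom lam := isMonHom_of_family (isHomFamily_comp σO hA.1)
  have hfst : fst H (𝟙_ (Over S)) ≫ lam = (H ◁ σO) ≫ υ := by
    have h : fst H (𝟙_ (Over S)) ≫ lift (𝟙 H) (toUnit H) = 𝟙 _ := by
      ext1
      · simp
      · exact toUnit_unique _ _
    rw [← Category.assoc, h, Category.id_comp]
  have hkey : ∀ (l : H ⟶ G) (w : 𝟙_ (Over S) ⟶ A), (H ◁ w) ≫ υ = fst H (𝟙_ (Over S)) ≫ l →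
      famUp k (fst (Red.bc k H) P₀ ≫ (Over.pullback k).map l) = (H ◁ (toUnit O ≫ w)) ≫ υ := by
    intro l w h
    rw [famUp_fst_comp_map, MonoidalCategory.whiskerLeft_comp, Category.assoc, h, whiskerLeft_fst_assoc]
  refine ⟨lam, ⟨hlam, eq_of_fst_comp ?_⟩, fun l hl => eq_of_fst_comp ?_⟩
  · have h := hkey lam σO hfst.symm
    rw [hσa, ha] at h
    exact (famDown_famUp k _).symm.trans ((congrArg (famDown k) h).trans (famDown_famUp k φ))
  · haveI := hl.1
    obtain ⟨w, hw, -⟩ := hA.2 _ (fst H (𝟙_ (Over S)) ≫ l) (isHomFamily_fst_comp l)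
    have h := hkey l w hw
    rw [hl.2] at h
    have hwa : toUnit O ≫ w = a := hau _ h.symm
    have hwσ : w = σO := by
      refine Over.OverMorphism.ext (hext _ _ (Over.w w) hσ ?_)
      have h2 := congrArg (fun q : O ⟶ A => e ≫ q.left) (hwa.trans hσa.symm)
      have ht : e ≫ (toUnit O).left = S.fromSpecResidueField (genericPoint S) := by
        rw [← he]
        congr 1
      simp only [Over.comp_left, ← Category.assoc, ht] at h2
      exact h2
    rw [hfst, ← hwσ, hw]

end Extend

/-- A connected normal locally Noetherian scheme is integral and geometrically unibranch. -/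
theorem isIntegral_of_normal [ConnectedSpace ↥S] [IsLocallyNoetherian S]
    (hnorm : ∀ x : ↥S, IsDomain (S.presheaf.stalk x) ∧ IsIntegrallyClosed (S.presheaf.stalk x)) : IsIntegral S := by
  haveI : ∀ x : S, _root_.IsReduced (S.presheaf.stalk x) := fun x => by haveI := (hnorm x).1; infer_instance
  haveI : IsReduced S := isReduced_of_isReduced_stalk S
  exact S13423.isIntegral_of_connected fun s => (hnorm s).1

theorem geomUnibranch_of_normal
    (hnorm : ∀ x : ↥S, IsDomain (S.presheaf.stalk x) ∧ IsIntegrallyClosed (S.presheaf.stalk x)) (s : S) :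
    CAlg2.IsGeomUnibranch (S.presheaf.stalk s) := by
  haveI := (hnorm s).1
  haveI := (hnorm s).2
  exact S9812.result _

/-- A split subtorus of an open piece lies in the greatest split subtorus. -/
theorem exists_factor_open [ConnectedSpace ↥S] [IsLocallyNoetherian S]
    (hnorm : ∀ x : ↥S, IsDomain (S.presheaf.stalk x) ∧ IsIntegrallyClosed (S.presheaf.stalk x))
    {T T₀ : Over S} [GrpObj T] [GrpObj T₀] (hT : Red.IsTorus T) (j₀ : T₀ ⟶ T) [IsMonHom j₀] [Mono j₀]
    (hmax : ∀ (T' : Over S) [GrpObj T'] (j' : T' ⟶ T) [IsMonHom j'] [Mono j'] (r' : ℕ),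
      Red.IsSplitTorusWith (Fin r' → ℤ) T' → ∃ g : T' ⟶ T₀, g ≫ j₀ = j')
    (U : S.Opens) (hne : Nonempty U.toScheme) (T' : Over (U : Scheme.{u})) [GrpObj T'] (j' : T' ⟶ Red.bc U.ι T)
    [IsMonHom j'] (r' : ℕ) (hT' : Red.IsSplitTorusWith (Fin r' → ℤ) T') :
    ∃ g : T' ⟶ Red.bc U.ι T₀, g ≫ (Over.pullback U.ι).map j₀ = j' := by
  haveI : IsIntegral S := isIntegral_of_normal hnorm
  haveI : AddGroup.FG (Fin r' → ℤ) := AddGroup.fg_iff_mul_fg.2 inferInstance
  have hη : genericPoint S ∈ U := by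
    obtain ⟨x⟩ := hne
    exact ((genericPoint_spec S).mem_open_set_iff U.2).2 ⟨x.1, trivial, x.2⟩
  have hr : Set.range (S.fromSpecResidueField (genericPoint S)) ⊆ Set.range U.ι := by
    rw [Scheme.range_fromSpecResidueField, Scheme.Opens.range_ι]
    exact Set.singleton_subset_iff.2 hη
  let e : Spec (S.residueField (genericPoint S)) ⟶ U.toScheme :=
    IsOpenImmersion.lift U.ι (S.fromSpecResidueField (genericPoint S)) hr
  have he : e ≫ U.ι = S.fromSpecResidueField (genericPoint S) := IsOpenImmersion.lift_fac _ _ _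
  haveI : IsDominant e := ⟨fun x => by
    rw [U.ι.isOpenEmbedding.isEmbedding.closure_eq_preimage_closure_image]
    obtain ⟨pt⟩ := (inferInstance : Nonempty (Spec (S.residueField (genericPoint S))))
    refine ((genericPoint_spec S).specializes (Set.mem_univ (U.ι x))).mem_closed isClosed_closure
      (subset_closure ⟨e pt, ⟨pt, rfl⟩, ?_⟩)
    rw [← Scheme.Hom.comp_apply, he]
    exact Scheme.fromSpecResidueField_apply _ _⟩
  let H : Over S := Red.DS S (Fin r' → ℤ)
  let C : Chars (Fin r' → ℤ) H := charsDS S _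
  obtain ⟨E⟩ := hT'
  obtain ⟨i⟩ := nonempty_grpIso_of_chars (C.baseChange U.ι H) ((charsDS _ _).transport E)
  haveI : IsMonHom i.hom.hom.hom := i.hom.hom.isMonHom_hom
  haveI : IsMonHom i.inv.hom.hom := i.inv.hom.isMonHom_hom
  obtain ⟨lam, ⟨hlam, hlamu⟩, -⟩ := existsUnique_extend (geomUnibranch_of_normal hnorm) (isMultTypeFT_of_chars C)
    (isMultTypeFT_of_torus hT) U.ι e he (i.hom.hom.hom ≫ j')
  haveI := hlam
  obtain ⟨r, T₁, _, q, j, hq, hj, hjm, hsplit, hqj⟩ := exists_image (isMultTypeFT_of_torus hT) r' C lam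
  haveI := hj
  haveI := hjm
  obtain ⟨g, hg⟩ := hmax T₁ j r hsplit
  refine ⟨i.inv.hom.hom ≫ (Over.pullback U.ι).map (q ≫ g), ?_⟩
  rw [Category.assoc, ← Functor.map_comp, Category.assoc, hg, hqj, hlamu, ← Category.assoc,
    show i.inv.hom.hom ≫ i.hom.hom.hom = 𝟙 _ by rw [← Mon.comp_hom', ← Grp.comp', i.inv_hom_id]; rfl,
    Category.id_comp]

end Groth.Agent.CocharExt20
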